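import Groth.Agent.Lib.WeakAss18.Push
import Groth.Prelude.Def_FDesc
import Mathlib.RingTheory.Ideal.GoingUp
import Mathlib.RingTheory.Flat.TorsionFree

/-!
Associated points on locally noetherian schemes.
-/

universe u

open CategoryTheory Limits AlgebraicGeometry TopologicalSpace Opposite

set_option backward.isDefEq.respectTransparency false

namespace Groth.Agent.AssPts11

open Groth.Agent.WA

variable {X Y : Scheme.{u}} {F : X.Modules}

theorem mem_ass_iff {x : X} : x ∈ AssSch.Ass F ↔ Curv2.IsWeakAssPoint F x := isAssPoint_iff x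

/-- Associated points are closed under a section witness on an affine open with affine preimage. -/
theorem weakAss_push_of_affine_preimage (f : X ⟶ Y) [IsLocallyNoetherian X] [Coh.IsQCoh F] {x : X} {V : Y.Opens}
    (hV : IsAffineOpen V) (hU : IsAffineOpen (f ⁻¹ᵁ V)) (hs : f x ∈ V)
    (hwa : Curv2.IsWeakAssPoint F x) : Curv2.IsWeakAssPoint ((Scheme.Modules.pushforward f).obj F) (f x) := by
  obtain ⟨t, ht, hP⟩ := exists_section_weakAss hU (y := x) hs hwa
  refine isWeakAssPoint_of_section hV hs (show Γ((Scheme.Modules.pushforward f).obj F, V) from t)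
    (fun h0 => ht (germ_push_eq_zero f F hs _ h0)) fun b hb => ?_
  have hmem : f.app V b ∈ (hU.primeIdealOf ⟨x, hs⟩).asIdeal := by
    by_contra hn
    exact hb ((isUnit_germ_app f hs b).mp ((M1.isUnit_germ_iff hU hs _).mpr hn))
  rw [hP] at hmem
  obtain ⟨k, hk⟩ := hmem
  rw [Submodule.mem_colon_singleton, Submodule.mem_bot, ← map_pow] at hk
  exact ⟨k, (congrArg _ (show (b ^ k • (show Γ((Scheme.Modules.pushforward f).obj F, V) from t) :
    Γ((Scheme.Modules.pushforward f).obj F, V)) = 0 from hk)).trans (map_zero _)⟩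

/-- The support contains the associated points. -/
theorem nontrivial_of_mem_ass {x : X} (hx : x ∈ AssSch.Ass F) : Nontrivial (F.presheaf.stalk x) :=
  not_subsingleton_iff_nontrivial.1 (not_subsingleton_of_isWeakAssPoint (mem_ass_iff.1 hx))

/-- Above every point of the support there is an associated point specialising to it. -/
theorem exists_ass_specializes [Coh.IsQCoh F] {y : X} (hy : Nontrivial (F.presheaf.stalk y)) :
    ∃ z ∈ AssSch.Ass F, z ⤳ y := by
  haveI := hy
  obtain ⟨m, hm⟩ := exists_ne (0 : F.presheaf.stalk y)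
  obtain ⟨V, hyV, s, rfl⟩ := F.presheaf.exists_germ_eq m
  obtain ⟨W, hW, hyW, hWV⟩ := exists_isAffineOpen_mem_and_subset (U := V) hyV
  rw [← M1.germ_mres F hWV hyW] at hm
  obtain ⟨z, hz, hzy, hwa, -⟩ := exists_weakAss hW hyW _ hm
  exact ⟨z, mem_ass_iff.2 hwa, hzy⟩

/-- An open contains the associated points when restriction to it is injective. -/
theorem ass_subset_of_injective [Coh.IsQCoh F] [IsLocallyNoetherian X] (U : X.Opens)
    (h : ∀ V : X.Opens, IsAffineOpen V → ∀ s : Γ(F, V),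
      F.presheaf.map (homOfLE (inf_le_left : V ⊓ U ≤ V)).op s = 0 → s = 0) :
    AssSch.Ass F ⊆ (U : Set X) := by
  intro x hx
  by_contra hxU
  obtain ⟨V, hV, hxV, -⟩ := exists_isAffineOpen_mem_and_subset (U := (⊤ : X.Opens)) (x := x) trivial
  obtain ⟨t, ht, hP⟩ := exists_section_weakAss hV hxV (mem_ass_iff.1 hx)
  refine ht ?_
  rw [h V hV t (M1.section_ext _ _ fun z hz => ?_), map_zero]
  rw [map_zero, M1.germ_mres F inf_le_left hz]
  have hnot : ¬ x ⤳ z := fun hxz => hxU (hxz.mem_open U.2 hz.2)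
  obtain ⟨a, ha, hau⟩ : ∃ a : Γ(X, V), IsUnit (X.presheaf.germ V z hz.1 a) ∧ ¬ IsUnit (X.presheaf.germ V x hxV a) := by
    by_contra hc
    push Not at hc
    exact hnot (specializes_of_isUnit hV hz.1 hxV hc)
  have hmem : a ∈ (hV.primeIdealOf ⟨x, hxV⟩).asIdeal := by
    by_contra hn
    exact hau ((M1.isUnit_germ_iff hV hxV a).2 hn)
  rw [hP] at hmem
  obtain ⟨n, hn⟩ := hmem
  rw [Submodule.mem_colon_singleton, Submodule.mem_bot] at hn
  exact germ_zero_of_smul hz.1 (a ^ n) t (by rw [map_pow]; exact ha.pow n) hn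

/-- Without embedded points a dense open contains the associated points of the structure sheaf. -/
theorem ass_subset_of_dense [IsLocallyNoetherian X] (U : X.Opens) (hU : Dense (U : Set X))
    (h : AssSch.NoEmbedded (Coh.structureModule X)) : AssSch.Ass (Coh.structureModule X) ⊆ (U : Set X) := by
  classical
  intro y hy
  haveI := M1.isQCoh_structureModule X
  haveI : Coh.IsQCoh (Coh.structureModule X) := M1.isQCoh_structureModule X
  obtain ⟨V, hV, hyV, -⟩ := exists_isAffineOpen_mem_and_subset (U := (⊤ : X.Opens)) (x := y) trivial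
  have hFT : CohB1.IsFT (Coh.structureModule X) := (M1.isCoh_structureModule X).2
  let T := {q | (q ∈ V ∧ Curv2.IsWeakAssPoint (Coh.structureModule X) q) ∧ q ≠ y}
  have hT : T.Finite := (finite_weakAss_affine (F := Coh.structureModule X) inferInstance hFT hV).subset fun q hq => hq.1
  have hC : IsClosed (⋃ q ∈ T, closure ({q} : Set X)) := hT.isClosed_biUnion fun _ _ => isClosed_closure
  have hyC : y ∉ ⋃ q ∈ T, closure ({q} : Set X) := by
    intro hc
    obtain ⟨q, hq, hyq⟩ := Set.mem_iUnion₂.1 hc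
    exact hq.2 (h y hy q (mem_ass_iff.2 hq.1.2) (specializes_iff_mem_closure.2 hyq)).symm
  obtain ⟨z, ⟨hzV, hzC⟩, hzU⟩ := hU.inter_open_nonempty ((V : Set X) ∩ (⋃ q ∈ T, closure ({q} : Set X))ᶜ)
    (V.2.inter hC.isOpen_compl) ⟨y, hyV, hyC⟩
  have hne : (Coh.structureModule X).presheaf.germ V z hzV (show Γ(Coh.structureModule X, V) from (1 : Γ(X, V))) ≠ 0 := by
    rw [Ne, germ_O_eq_zero_iff, map_one]
    exact one_ne_zero
  obtain ⟨q, hqV, hqz, hwa, -⟩ := exists_weakAss hV hzV _ hne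
  rcases eq_or_ne q y with rfl | hqy
  · exact hqz.mem_open U.2 hzU
  · exact (hzC (Set.mem_iUnion₂.2 ⟨q, ⟨⟨hqV, hwa⟩, hqy⟩, specializes_iff_mem_closure.1 hqz⟩)).elim

/-- A point which is no associated point has a nonzerodivisor in its maximal ideal. -/
theorem exists_nonZeroDivisor_of_not_ass [IsLocallyNoetherian X] {x : X}
    (hx : x ∉ AssSch.Ass (Coh.structureModule X)) :
    ∃ a : X.presheaf.stalk x, ¬ IsUnit a ∧ a ∈ nonZeroDivisors (X.presheaf.stalk x) := by
  classical
  haveI : Coh.IsQCoh (Coh.structureModule X) := M1.isQCoh_structureModule X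
  obtain ⟨U, hU, hxU, -⟩ := exists_isAffineOpen_mem_and_subset (U := (⊤ : X.Opens)) (x := x) trivial
  have hfin : {q | (q ∈ U ∧ Curv2.IsWeakAssPoint (Coh.structureModule X) q) ∧ q ⤳ x}.Finite :=
    (finite_weakAss_affine (F := Coh.structureModule X) inferInstance (M1.isCoh_structureModule X).2 hU).subset fun q hq => hq.1
  let g : X → Ideal Γ(X, U) := fun y => if h : y ∈ U then (hU.primeIdealOf ⟨y, h⟩).asIdeal else ⊥
  have hsub : ¬ ((hU.primeIdealOf ⟨x, hxU⟩).asIdeal : Set Γ(X, U)) ⊆ ⋃ q ∈ (hfin.toFinset : Set X), g q := by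
    rw [Ideal.subset_union_prime x x fun q hq _ _ => by
      simp only [g, dif_pos ((Set.Finite.mem_toFinset hfin).1 hq).1.1]; infer_instance]
    rintro ⟨q, hq, hle⟩
    obtain ⟨⟨hqU, hwa⟩, hqx⟩ := (Set.Finite.mem_toFinset hfin).1 hq
    simp only [g, dif_pos hqU] at hle
    have hxq : x ⤳ q := specializes_of_isUnit hU hqU hxU fun a ha => (M1.isUnit_germ_iff hU hxU a).2 fun ham =>
      (M1.isUnit_germ_iff hU hqU a).1 ha (hle ham)
    exact hx (mem_ass_iff.2 ((hqx.antisymm hxq).eq ▸ hwa))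
  obtain ⟨a, hax, hag⟩ := Set.not_subset.1 hsub
  refine ⟨X.presheaf.germ U x hxU a, fun hu => (M1.isUnit_germ_iff hU hxU a).1 hu hax,
    germ_mem_nonZeroDivisors hU hxU a fun q hqU hqx hwa => (M1.isUnit_germ_iff hU hqU a).2 fun hq => hag ?_⟩
  exact Set.mem_iUnion₂.2 ⟨q, (Set.Finite.mem_toFinset hfin).2 ⟨⟨hqU, hwa⟩, hqx⟩, by simp only [g, dif_pos hqU]; exact hq⟩

/-- Distinct points of a fibre of an integral morphism do not specialise to one another. -/
theorem eq_of_specializes_of_isIntegralHom (f : X ⟶ Y) [IsIntegralHom f] {x y : X} (h : y ⤳ x) (he : f y = f x) :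
    x = y := by
  obtain ⟨V, hV, hxV, -⟩ := exists_isAffineOpen_mem_and_subset (U := (⊤ : Y.Opens)) (x := f x) trivial
  have hyV : f y ∈ V := he ▸ hxV
  have hU := hV.preimage f
  let P := hU.primeIdealOf ⟨x, hxV⟩
  let Q := hU.primeIdealOf ⟨y, hyV⟩
  have hQP : Q.asIdeal ≤ P.asIdeal := fun a ha => by
    by_contra hna
    have hu := (X.mem_basicOpen a x hxV).2 ((M1.isUnit_germ_iff hU hxV a).2 hna)
    exact (M1.isUnit_germ_iff hU hyV a).1 ((X.mem_basicOpen a y hyV).1 (h.mem_open (X.basicOpen a).isOpen hu)) ha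
  letI : Algebra Γ(Y, V) Γ(X, f ⁻¹ᵁ V) := (f.app V).hom.toAlgebra
  haveI : Algebra.IsIntegral Γ(Y, V) Γ(X, f ⁻¹ᵁ V) := ⟨fun b => f.isIntegral_app V hV b⟩
  rcases hQP.eq_or_lt with heq | hlt
  · exact ((hU.fromSpec_primeIdealOf ⟨x, hxV⟩).symm.trans
      ((congrArg hU.fromSpec (PrimeSpectrum.ext heq.symm)).trans (hU.fromSpec_primeIdealOf ⟨y, hyV⟩)))
  · exfalso
    refine (Ideal.IsIntegral.comap_lt_comap (R := Γ(Y, V)) hlt).ne (Ideal.ext fun b => ?_)
    change f.app V b ∈ Q.asIdeal ↔ f.app V b ∈ P.asIdeal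
    rw [← not_iff_not]
    refine ((M1.isUnit_germ_iff hU hyV _).symm.trans ?_).trans (M1.isUnit_germ_iff hU hxV _)
    rw [isUnit_germ_app, isUnit_germ_app, ← Y.mem_basicOpen, ← Y.mem_basicOpen, he]

end Groth.Agent.AssPts11
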