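import Groth.Agent.Lib.AssPts11.Basic
import Groth.Agent.Lib.TensorMod.PullStalk
import Mathlib.RingTheory.Length

/-!
Associated points of restrictions to open subschemes.
-/

universe u

open CategoryTheory Limits AlgebraicGeometry TopologicalSpace Opposite TensorProduct

set_option backward.isDefEq.respectTransparency false

namespace Groth.Agent.AssPts11

open Groth.Agent.WA

variable {X Y : Scheme.{u}} (f : Y ⟶ X) [IsOpenImmersion f] (y : Y) (M : X.Modules)

theorem bijective_stalkMap : Function.Bijective (f.stalkMap y) :=
  ConcreteCategory.bijective_of_isIso (f.stalkMap y)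

/-- Stalks do not change under pullback along an open immersion. -/
theorem bijective_stalkUnit : Function.Bijective (M2.stalkUnit f y M) := by
  let R := X.presheaf.stalk (f y)
  let S := Y.presheaf.stalk y
  let e : R ≃ₗ[R] S := LinearEquiv.ofBijective (Algebra.linearMap R S) (bijective_stalkMap f y)
  let g := (TensorProduct.lid R (M.presheaf.stalk (f y) : Type u)).symm.trans (TensorProduct.congr e (LinearEquiv.refl _ _))
  have h : (M2.stalkUnit f y M : _ → _) = fun m => M2.pullStalkEquiv f y M (g m) := by
    funext m
    rw [show g m = 1 ⊗ₜ m by simp [g, e]]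
    exact ((LinearMap.liftBaseChange_one_tmul _ _ _)).symm
  rw [h]
  exact (M2.pullStalkEquiv f y M).bijective.comp g.bijective

theorem isWeakAssPoint_pullback_iff :
    Curv2.IsWeakAssPoint ((Scheme.Modules.pullback f).obj M) y ↔ Curv2.IsWeakAssPoint M (f y) := by
  have hσ := bijective_stalkMap f y
  have hu := bijective_stalkUnit f y M
  have hmax : (IsLocalRing.maximalIdeal (Y.presheaf.stalk y)).comap (f.stalkMap y).hom =
      IsLocalRing.maximalIdeal (X.presheaf.stalk (f y)) :=
    IsLocalRing.maximalIdeal_comap _
  have key : ∀ m, Ideal.comap (f.stalkMap y).hom (LinearMap.toSpanSingleton (Y.presheaf.stalk y) _ (M2.stalkUnit f y M m)).ker =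
      (LinearMap.toSpanSingleton (X.presheaf.stalk (f y)) _ m).ker := fun m => by
    ext c
    rw [Ideal.mem_comap, LinearMap.mem_ker, LinearMap.mem_ker, LinearMap.toSpanSingleton_apply,
      LinearMap.toSpanSingleton_apply, ← map_eq_zero_iff _ hu.1, LinearMap.map_smul]
    rfl
  constructor
  · rintro ⟨n, hn⟩
    obtain ⟨m, rfl⟩ := hu.2 n
    exact ⟨m, by rw [← key, ← Ideal.comap_radical, hn, hmax]⟩
  · rintro ⟨m, hm⟩
    refine ⟨M2.stalkUnit f y M m, Ideal.comap_injective_of_surjective _ hσ.2 ?_⟩
    rw [Ideal.comap_radical, key, hm, hmax]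

/-- Associated points restrict to an open subscheme. -/
theorem mem_ass_pullback_iff :
    y ∈ AssSch.Ass ((Scheme.Modules.pullback f).obj M) ↔ f y ∈ AssSch.Ass M := by
  rw [mem_ass_iff, mem_ass_iff, isWeakAssPoint_pullback_iff]

theorem length_pullback_stalk :
    Module.length (Y.presheaf.stalk y) (((Scheme.Modules.pullback f).obj M).presheaf.stalk y) =
      Module.length (X.presheaf.stalk (f y)) (M.presheaf.stalk (f y)) :=
  (Module.length_eq_of_surjective (M := (((Scheme.Modules.pullback f).obj M).presheaf.stalk y : Type u))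
    (bijective_stalkMap f y).2).symm.trans
    (LinearEquiv.ofBijective _ (bijective_stalkUnit f y M)).length_eq.symm

end Groth.Agent.AssPts11
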