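import Groth.Agent.S2519
import Mathlib.RingTheory.KrullDimension.Regular
import Mathlib.RingTheory.Regular.RegularSequence

/-!
Integral modules: lifting along one parameter.
-/

universe u

open Pointwise

namespace Groth.Agent.AssPts11

theorem withBot_add_one_cancel {a b : WithBot ℕ∞} (hb : b ≠ ⊤) (hb' : b ≠ ⊥) (h : a + 1 = b + 1) : a = b := by
  obtain ⟨b, rfl⟩ := WithBot.ne_bot_iff_exists.1 hb'
  cases a with
  | bot =>
    rw [WithBot.bot_add, ← WithBot.coe_one, ← WithBot.coe_add] at h
    exact absurd h.symm WithBot.coe_ne_bot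
  | coe a =>
    have h' : a + 1 = b + 1 := WithBot.coe_inj.1 h
    exact congrArg WithBot.some (WithTop.add_right_cancel WithTop.one_ne_top h')

variable {A : Type u} [CommRing A] [IsNoetherianRing A]

/-- An isomorphism preserves lengths of localisations. -/
theorem length_localized_eq {M N : Type u} [AddCommGroup M] [Module A M] [AddCommGroup N] [Module A N]
    (e : M ≃ₗ[A] N) (p : Ideal A) [p.IsPrime] :
    Module.length (Localization.AtPrime p) (LocalizedModule p.primeCompl M) =
      Module.length (Localization.AtPrime p) (LocalizedModule p.primeCompl N) :=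
  (LinearEquiv.ofBijective (IsLocalizedModule.mapExtendScalars p.primeCompl (LocalizedModule.mkLinearMap p.primeCompl M)
    (LocalizedModule.mkLinearMap p.primeCompl N) (Localization.AtPrime p) e.toLinearMap)
    ⟨IsLocalizedModule.map_injective _ _ _ _ e.injective, IsLocalizedModule.map_surjective _ _ _ _ e.surjective⟩).length_eq

/-- A module with a single associated prime at which it has length one. -/
def IsIntegralMod (A : Type u) [CommRing A] (M : Type u) [AddCommGroup M] [Module A M] : Prop :=
  (∃ p, associatedPrimes A M = {p}) ∧ ∀ p : associatedPrimes A M,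
    haveI : p.1.IsPrime := IsAssociatedPrime.isPrime p.2
    Module.length (Localization.AtPrime p.1) (LocalizedModule p.1.primeCompl M) = 1

theorem IsIntegralMod.of_equiv {M N : Type u} [AddCommGroup M] [Module A M] [AddCommGroup N] [Module A N]
    (e : M ≃ₗ[A] N) (h : IsIntegralMod A M) : IsIntegralMod A N := by
  have he := LinearEquiv.AssociatedPrimes.eq e
  refine ⟨he ▸ h.1, fun p => ?_⟩
  haveI : p.1.IsPrime := IsAssociatedPrime.isPrime p.2
  rw [← length_localized_eq e]
  exact h.2 ⟨p.1, he.symm ▸ p.2⟩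

variable [IsLocalRing A] {M : Type u} [AddCommGroup M] [Module A M] [Module.Finite A M] [Nontrivial M] {t : A}

theorem supportDim_ne_top : Module.supportDim A M ≠ ⊤ := fun h =>
  ringKrullDim_ne_top (R := A) (top_le_iff.1 (h ▸ Module.supportDim_le_ringKrullDim A M))

/-- An integral reduction with drop of dimension: `t` lies in no minimal prime of the support. -/
theorem notMem_minimalPrimes_of_integral (ht : t ∈ IsLocalRing.maximalIdeal A)
    {P : Ideal A} (hP : associatedPrimes A (QuotSMulTop t M) = {P})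
    (hdim : Module.supportDim A (QuotSMulTop t M) + 1 = Module.supportDim A M) :
    ∀ q ∈ (Module.annihilator A M).minimalPrimes, t ∉ q := by
  have hPmem : P ∈ associatedPrimes A (QuotSMulTop t M) := hP ▸ rfl
  haveI := IsAssociatedPrime.isPrime hPmem
  have hge : ∀ q : PrimeSpectrum A, q ∈ Module.support A (QuotSMulTop t M) → P ≤ q.asIdeal := fun q hq => by
    obtain ⟨r, hr, hrq⟩ := Ideal.exists_minimalPrimes_le (Module.mem_support_iff_of_finite.1 hq)
    have h1 := Module.associatedPrimes.minimalPrimes_annihilator_subset_associatedPrimes A (QuotSMulTop t M) hr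
    rw [hP, Set.mem_singleton_iff] at h1
    exact h1 ▸ hrq
  have hPs : (⟨P, inferInstance⟩ : PrimeSpectrum A) ∈ Module.support A (QuotSMulTop t M) :=
    Module.mem_support_iff_of_finite.2 (Submodule.annihilator_top.symm.le.trans hPmem.annihilator_le)
  have hPsM : (⟨P, inferInstance⟩ : PrimeSpectrum A) ∈ Module.support A M ∧ t ∈ P := by
    have := hPs
    rw [Module.support_quotSMulTop] at this
    exact ⟨this.1, by simpa using this.2⟩
  intro q hq htq
  have hqs : (⟨q, hq.1.1⟩ : PrimeSpectrum A) ∈ Module.support A M := Module.mem_support_iff_of_finite.2 hq.1.2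
  have hqP : q = P := by
    refine le_antisymm (hq.2 ⟨inferInstance, Module.mem_support_iff_of_finite.1 hPsM.1⟩ (hge ⟨q, hq.1.1⟩ ?_)) (hge ⟨q, hq.1.1⟩ ?_) <;>
      (rw [Module.support_quotSMulTop]; exact ⟨hqs, by simpa using htq⟩)
  subst hqP
  -- every chain in the support is at most as long as the dimension of the reduction
  have hne : Nontrivial (QuotSMulTop t M) := Module.nonempty_support_iff.1 ⟨_, hPs⟩
  have hle : Module.supportDim A M ≤ Module.supportDim A (QuotSMulTop t M) := by
    refine iSup_le fun c => ?_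
    by_cases h0 : t ∈ c.head.1.asIdeal
    · exact le_iSup_of_le ⟨c.length, fun i => ⟨(c i).1, by
        rw [Module.support_quotSMulTop]
        exact ⟨(c i).2, Set.singleton_subset_iff.2
          ((c.monotone (Fin.zero_le i) : c.head.1 ≤ (c i).1) h0)⟩⟩, fun i => c.step i⟩ le_rfl
    · let B := A ⧸ c.head.1.asIdeal
      have h1 : (c.length : WithBot ℕ∞) ≤ Module.supportDim A B := by
        refine le_iSup_of_le ⟨c.length, fun i => ⟨(c i).1, ?_⟩, fun i => c.step i⟩ le_rfl
        rw [Module.mem_support_iff_of_finite, Ideal.annihilator_quotient]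
        exact (c.monotone (Fin.zero_le i) : c.head.1 ≤ (c i).1)
      have hj : t ∈ (Module.annihilator A B).jacobson := Ideal.mem_sInf.2 fun {J} hJ => by
        rw [IsLocalRing.eq_maximalIdeal hJ.2]; exact ht
      refine h1.trans ((Module.supportDim_le_supportDim_quotSMulTop_succ_of_mem_jacobson hj).trans ?_)
      rcases isEmpty_or_nonempty (Module.support A (QuotSMulTop t B)) with he | he
      · rw [Module.supportDim, Order.krullDim_eq_bot, WithBot.bot_add]; exact bot_le
      have hsub : ∀ s : Module.support A (QuotSMulTop t B), s.1 ∈ Module.support A (QuotSMulTop t M) ∧ q < s.1.asIdeal := by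
        rintro ⟨s, hs⟩
        rw [Module.support_quotSMulTop, Set.mem_inter_iff, Module.mem_support_iff_of_finite,
          Ideal.annihilator_quotient] at hs
        have hsM : s ∈ Module.support A (QuotSMulTop t M) := by
          rw [Module.support_quotSMulTop]
          exact ⟨Module.mem_support_mono hs.1 c.head.2, hs.2⟩
        refine ⟨hsM, lt_of_le_of_ne (hge s hsM) fun e => ?_⟩
        have : q ≤ c.head.1.asIdeal :=
          hq.2 ⟨c.head.1.2, Module.mem_support_iff_of_finite.1 c.head.2⟩ (by rw [e]; exact hs.1)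
        exact h0 (this htq)
      simp only [Module.supportDim]
      haveI : Nonempty (Module.support A (QuotSMulTop t M)) := ⟨⟨_, hPs⟩⟩
      rw [Order.krullDim_eq_iSup_length, Order.krullDim_eq_iSup_length]
      refine WithBot.coe_le_coe.mpr ?_
      simp only [ENat.iSup_add, iSup_le_iff]
      intro d
      let d' : LTSeries (Module.support A (QuotSMulTop t M)) :=
        d.map (fun s => ⟨s.1, (hsub s).1⟩) (fun _ _ h => h)
      have hlt : (⟨⟨q, inferInstance⟩, hPs⟩ : Module.support A (QuotSMulTop t M)) < d'.head := (hsub d.head).2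
      exact le_of_eq_of_le (by simp [d']) (le_iSup (fun p : LTSeries _ => (p.length : ℕ∞)) (d'.cons _ hlt))
  have hbot := Module.supportDim_ne_bot_of_nontrivial A (QuotSMulTop t M)
  have htop : Module.supportDim A M ≠ ⊤ := supportDim_ne_top
  rw [← hdim] at hle htop
  revert hle htop
  generalize Module.supportDim A (QuotSMulTop t M) = d at hbot
  obtain ⟨d, rfl⟩ := WithBot.ne_bot_iff_exists.1 hbot
  intro hle htop
  have h2 : d + 1 ≤ d := WithBot.coe_le_coe.1 hle
  have h3 : d + 1 = ⊤ := by
    induction d using ENat.recTopCoe with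
    | top => rfl
    | coe m => exact absurd h2 (by exact_mod_cast Nat.not_succ_le_self m)
  exact htop (by rw [← WithBot.coe_one, ← WithBot.coe_add, h3]; rfl)

/-- An integral reduction by a parameter forces the module to be integral and the parameter regular. -/
theorem isIntegralMod_of_quotSMulTop (ht : t ∈ IsLocalRing.maximalIdeal A)
    (hN : IsIntegralMod A (QuotSMulTop t M))
    (hdim : Module.supportDim A (QuotSMulTop t M) + 1 = Module.supportDim A M) :
    IsIntegralMod A M ∧ IsSMulRegular M t := by
  obtain ⟨P, hP⟩ := hN.1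
  have hPmem : P ∈ associatedPrimes A (QuotSMulTop t M) := hP ▸ rfl
  haveI := IsAssociatedPrime.isPrime hPmem
  have hmin := notMem_minimalPrimes_of_integral ht hP hdim
  have hN' : IsIntegralMod A (M ⧸ (Ideal.span {t} • (⊤ : Submodule A M))) :=
    hN.of_equiv (Submodule.quotEquivOfEq _ _ (Submodule.ideal_span_singleton_smul t ⊤).symm)
  have hreg : IsSMulRegular M t := by
    refine S2519.result M t hmin ?_ hN'.2
    obtain ⟨P', hP'⟩ := hN'.1
    intro a ha b hb _
    rw [hP'] at ha hb
    exact ha.trans hb.symm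
  -- associated primes of `M` lie below `P`
  have hPle : ∀ q ∈ associatedPrimes A M, q ≤ P := by
    intro q hq a ha
    obtain ⟨hq', x, hx⟩ := isAssociatedPrime_iff.1 hq
    have hx0 : x ≠ 0 := fun e => hq'.ne_top (Ideal.eq_top_iff_one q |>.2 (by rw [hx, e]; simp))
    have hax : a • x = 0 := by
      rw [hx, Submodule.mem_colon_singleton, Submodule.mem_bot] at ha
      exact ha
    obtain ⟨n, hn⟩ : ∃ n, ¬ ∃ y, t ^ n • y = x := by
      by_contra hc
      push Not at hc
      refine hx0 ((Submodule.mem_bot A).1 ?_)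
      rw [← Ideal.iInf_pow_smul_eq_bot_of_isLocalRing (M := M) _ (IsLocalRing.maximalIdeal.isMaximal A).ne_top]
      refine Submodule.mem_iInf _ |>.2 fun n => ?_
      obtain ⟨y, rfl⟩ := hc n
      exact Submodule.smul_mem_smul (Ideal.pow_mem_pow ht n) Submodule.mem_top
    obtain ⟨k, y, rfl, hy⟩ : ∃ (k : ℕ) (y : M), t ^ k • y = x ∧ y ∉ t • (⊤ : Submodule A M) := by
      clear hx hax
      revert hn
      induction n with
      | zero => exact fun h => absurd ⟨x, by simp⟩ h
      | succ n ih =>
        intro h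
        by_cases h' : ∃ y, t ^ n • y = x
        · obtain ⟨y, hy⟩ := h'
          refine ⟨n, y, hy, fun hyt => h ?_⟩
          obtain ⟨z, -, rfl⟩ := hyt
          exact ⟨z, by rw [pow_succ, mul_smul]; exact hy⟩
        · exact ih h'
    rw [smul_comm] at hax
    have hay : a • y = 0 := (hreg.pow _) (hax.trans (smul_zero _).symm)
    have hne : (t • (⊤ : Submodule A M)).mkQ y ≠ 0 := fun e => hy ((Submodule.Quotient.mk_eq_zero _).1 e)
    obtain ⟨r, hr, hle⟩ := exists_le_isAssociatedPrime_of_isNoetherianRing A _ hne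
    have hrP : r = P := by
      rw [← Set.mem_singleton_iff, ← hP]
      exact hr
    refine hrP ▸ hle ?_
    rw [Submodule.mem_colon_singleton, Submodule.mem_bot, ← map_smul, hay, map_zero]
  have htP : t ∈ P := hPmem.annihilator_le (Submodule.mem_annihilator.2 fun z _ => by
    obtain ⟨z, rfl⟩ := Submodule.mkQ_surjective _ z
    rw [← map_smul]
    exact (Submodule.Quotient.mk_eq_zero _).2 (Submodule.smul_mem_pointwise_smul z t ⊤ trivial))
  let g := LocalizedModule.mkLinearMap P.primeCompl M
  have hinj : ∀ m, g m = 0 → m = 0 := by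
    intro m hm
    by_contra hm0
    obtain ⟨s, hs⟩ := (IsLocalizedModule.eq_zero_iff P.primeCompl g).1 hm
    obtain ⟨r, hr, hle⟩ := exists_le_isAssociatedPrime_of_isNoetherianRing A m hm0
    refine s.2 (hPle r hr (hle ?_))
    rw [Submodule.mem_colon_singleton, Submodule.mem_bot]
    exact hs
  have hsimp := isSimpleModule_reduction P t (hN'.2 ⟨P, by
    rw [← LinearEquiv.AssociatedPrimes.eq (Submodule.quotEquivOfEq _ _ (Submodule.ideal_span_singleton_smul t ⊤).symm)]
    exact hPmem⟩)
  have hgen : ∀ m : M, m ≠ 0 → ∃ (n : ℕ) (z : LocalizedModule P.primeCompl M),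
      t ^ n • z = g m ∧ Submodule.span (Localization.AtPrime P) {z} = ⊤ := fun m hm => by
    obtain ⟨n, z, h1, h2⟩ := exists_pow_smul_generator (t := algebraMap A (Localization.AtPrime P) t)
      ((IsLocalization.AtPrime.to_map_mem_maximal_iff _ P t).2 htP) hsimp (fun e => hm (hinj m e))
    exact ⟨n, z, by rw [← map_pow, algebraMap_smul] at h1; exact h1, h2⟩
  have hregL : ∀ n (z : LocalizedModule P.primeCompl M), t ^ n • z = 0 → z = 0 := fun n z hz => by
    obtain ⟨⟨m, s⟩, rfl⟩ := IsLocalizedModule.mk'_surjective P.primeCompl g z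
    obtain ⟨c, hc⟩ := (IsLocalizedModule.mk'_eq_zero' g s).1 (show IsLocalizedModule.mk' g (t ^ n • m) s = 0 by
      rw [IsLocalizedModule.mk'_smul]; exact hz)
    refine (IsLocalizedModule.mk'_eq_zero' g s).2 ⟨c, (hreg.pow n) ?_⟩
    show t ^ n • (c : A) • m = t ^ n • (0 : M)
    rw [smul_comm, smul_zero]
    exact hc
  let p := Module.annihilator A M
  have hass : ∀ q ∈ associatedPrimes A M, q = p := by
    intro q hq
    refine le_antisymm (fun a ha => ?_) (Submodule.annihilator_top.symm.le.trans hq.annihilator_le)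
    obtain ⟨hq', x, hx⟩ := isAssociatedPrime_iff.1 hq
    have hx0 : x ≠ 0 := fun e => hq'.ne_top (Ideal.eq_top_iff_one q |>.2 (by rw [hx, e]; simp))
    rw [hx, Submodule.mem_colon_singleton, Submodule.mem_bot] at ha
    obtain ⟨n, z, hz, hspan⟩ := hgen x hx0
    have haz : a • z = 0 := hregL n _ (by rw [smul_comm, hz, ← map_smul, ha, map_zero])
    refine Module.mem_annihilator.2 fun w => hinj _ ?_
    obtain ⟨c, hc⟩ := Submodule.mem_span_singleton.1 (show g w ∈ Submodule.span (Localization.AtPrime P) {z} from hspan ▸ Submodule.mem_top)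
    rw [map_smul, ← hc, smul_comm, haz, smul_zero]
  obtain ⟨q, hq⟩ := associatedPrimes.nonempty A M
  have hpq : p = q := (hass q hq).symm
  refine ⟨⟨⟨p, Set.eq_singleton_iff_unique_mem.2 ⟨hpq ▸ hq, hass⟩⟩, fun r => ?_⟩, hreg⟩
  haveI : r.1.IsPrime := IsAssociatedPrime.isPrime r.2
  rw [Module.length_eq_one_iff, isSimpleModule_iff_toSpanSingleton_surjective]
  have hr : r.1 = p := hass _ r.2
  let gr := LocalizedModule.mkLinearMap r.1.primeCompl M
  refine ⟨?_, fun x hx y => ?_⟩
  · obtain ⟨m, hm⟩ := exists_ne (0 : M)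
    refine nontrivial_of_ne (gr m) 0 fun e => hm ?_
    obtain ⟨s, hs⟩ := (IsLocalizedModule.eq_zero_iff r.1.primeCompl gr).1 e
    by_contra hm0
    obtain ⟨r', hr', hle⟩ := exists_le_isAssociatedPrime_of_isNoetherianRing A m hm0
    refine s.2 (hr.ge ((hass r' hr').le (hle ?_)))
    rw [Submodule.mem_colon_singleton, Submodule.mem_bot]
    exact hs
  obtain ⟨⟨v, σ⟩, rfl⟩ := IsLocalizedModule.mk'_surjective r.1.primeCompl gr x
  obtain ⟨⟨w, τ⟩, rfl⟩ := IsLocalizedModule.mk'_surjective r.1.primeCompl gr y
  have hv : v ≠ 0 := fun e => hx (by simp [e])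
  obtain ⟨n, z, hz, hspan⟩ := hgen v hv
  obtain ⟨c, hc⟩ := Submodule.mem_span_singleton.1 (show g w ∈ Submodule.span (Localization.AtPrime P) {z} from hspan ▸ Submodule.mem_top)
  obtain ⟨⟨a, s⟩, rfl⟩ := IsLocalization.mk'_surjective P.primeCompl c
  have key : ((s : A) * t ^ n) • w = a • v := sub_eq_zero.1 (hinj _ (by
    rw [map_sub, map_smul, map_smul, ← hz, ← hc, smul_comm a, sub_eq_zero, mul_smul, smul_comm (s : A) (t ^ n)]
    congr 1
    rw [← smul_assoc, Algebra.smul_def, IsLocalization.mk'_spec', algebraMap_smul]))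
  have hb : (s : A) * t ^ n * (τ : A) ∈ r.1.primeCompl := by
    refine mul_mem (mul_mem (fun h => s.2 (hPle _ r.2 h)) (fun h => ?_)) τ.2
    obtain ⟨-, x', hx'⟩ := isAssociatedPrime_iff.1 r.2
    have ht' : t ∈ r.1 := (IsAssociatedPrime.isPrime r.2).mem_of_pow_mem n h
    rw [hx', Submodule.mem_colon_singleton, Submodule.mem_bot] at ht'
    have := hreg (ht'.trans (smul_zero t).symm)
    exact (IsAssociatedPrime.isPrime r.2).ne_top (Ideal.eq_top_iff_one _ |>.2 (by rw [hx', this]; simp))
  refine ⟨IsLocalization.mk' (Localization.AtPrime r.1) (a * (σ : A)) ⟨_, hb⟩, ?_⟩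
  rw [LinearMap.toSpanSingleton_apply]
  show IsLocalization.mk' (Localization.AtPrime r.1) _ _ • IsLocalizedModule.mk' gr v σ = IsLocalizedModule.mk' gr w τ
  rw [IsLocalizedModule.mk'_smul_mk', IsLocalizedModule.mk'_eq_mk'_iff]
  refine ⟨1, ?_⟩
  simp only [one_smul, Submonoid.smul_def, Submonoid.coe_mul]
  rw [show (a * (σ : A)) • v = (σ : A) • a • v from by rw [smul_smul, mul_comm], ← key, smul_smul, smul_smul]
  congr 1
  ring

end Groth.Agent.AssPts11
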