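import Mathlib.RingTheory.Ideal.AssociatedPrime.Localization
import Mathlib.RingTheory.Filtration
import Mathlib.RingTheory.Nakayama
import Mathlib.RingTheory.Length
import Mathlib.RingTheory.Regular.IsSMulRegular
import Mathlib.RingTheory.Ideal.MinimalPrime.Basic

/-!
Modules whose reduction by one element is reduced.
-/

universe u

open Pointwise

namespace Groth.Agent.AssPts11

section Local

variable {R : Type*} [CommRing R] [IsNoetherianRing R] [IsLocalRing R] {L : Type*} [AddCommGroup L]
  [Module R L] [Module.Finite R L] {t : R}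

omit [IsNoetherianRing R] [IsLocalRing R] [Module.Finite R L] in
theorem mem_tsmul {x : L} : x ∈ Ideal.span {t} • (⊤ : Submodule R L) ↔ ∃ y, t • y = x := by
  rw [Submodule.ideal_span_singleton_smul]
  exact ⟨fun h => by obtain ⟨y, -, rfl⟩ := h; exact ⟨y, rfl⟩, fun ⟨y, hy⟩ => ⟨y, trivial, hy⟩⟩

/-- With a simple reduction, every non-zero element is a power of `t` times a generator. -/
theorem exists_pow_smul_generator (ht : t ∈ IsLocalRing.maximalIdeal R)
    (hs : IsSimpleModule R (L ⧸ (Ideal.span {t} • ⊤ : Submodule R L))) {x : L} (hx : x ≠ 0) :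
    ∃ (n : ℕ) (z : L), t ^ n • z = x ∧ Submodule.span R {z} = ⊤ := by
  have hco := isSimpleModule_iff_isCoatom.1 hs
  have hjac : IsLocalRing.maximalIdeal R ≤ (⊥ : Ideal R).jacobson :=
    (IsLocalRing.jacobson_eq_maximalIdeal ⊥ bot_ne_top).ge
  have hfg : (⊤ : Submodule R L).FG := Module.Finite.fg_top
  have hmax : IsLocalRing.maximalIdeal R • (⊤ : Submodule R L) = Ideal.span {t} • ⊤ := by
    refine ((hco.le_iff).1 (Submodule.smul_mono_left ((Ideal.span_singleton_le_iff_mem _).2 ht))).resolve_left fun h => ?_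
    have h0 := Submodule.eq_bot_of_le_smul_of_le_jacobson_bot (IsLocalRing.maximalIdeal R) ⊤ hfg h.ge hjac
    exact hx ((Submodule.mem_bot R).1 (h0 ▸ (Submodule.mem_top : x ∈ _)))
  have hgen : ∀ z : L, z ∉ Ideal.span {t} • (⊤ : Submodule R L) → Submodule.span R {z} = ⊤ := fun z hz => by
    have h1 : Submodule.span R {z} ⊔ IsLocalRing.maximalIdeal R • ⊤ = ⊤ := by
      refine (hco.le_iff.1 (hmax ▸ le_sup_right)).resolve_right fun h => hz ?_
      exact h ▸ Submodule.mem_sup_left (Submodule.mem_span_singleton_self z)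
    exact top_le_iff.1 (Submodule.le_of_le_smul_of_le_jacobson_bot hfg hjac h1.ge)
  have key : ∀ n, x ∉ IsLocalRing.maximalIdeal R ^ n • (⊤ : Submodule R L) →
      ∃ (k : ℕ) (z : L), t ^ k • z = x ∧ z ∉ Ideal.span {t} • (⊤ : Submodule R L) := by
    intro n
    induction n generalizing x with
    | zero => intro h; exact absurd (by simp) h
    | succ n ih =>
      intro h
      by_cases hxT : x ∈ Ideal.span {t} • (⊤ : Submodule R L)
      · obtain ⟨y, rfl⟩ := mem_tsmul.1 hxT
        have hy : y ≠ 0 := fun e => hx (by rw [e, smul_zero])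
        have hyn : y ∉ IsLocalRing.maximalIdeal R ^ n • (⊤ : Submodule R L) := fun hy' => h (by
          rw [pow_succ', mul_smul]
          exact Submodule.smul_mem_smul ht hy')
        obtain ⟨k, z, hz, hzT⟩ := ih hy hyn
        exact ⟨k + 1, z, by rw [pow_succ', mul_smul, hz], hzT⟩
      · exact ⟨0, x, by simp, hxT⟩
  obtain ⟨n, hn⟩ : ∃ n, x ∉ IsLocalRing.maximalIdeal R ^ n • (⊤ : Submodule R L) := by
    by_contra hc
    push Not at hc
    refine hx ((Submodule.mem_bot R).1 ?_)
    rw [← Ideal.iInf_pow_smul_eq_bot_of_isLocalRing (M := L) _ (IsLocalRing.maximalIdeal.isMaximal R).ne_top]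
    exact Submodule.mem_iInf _ |>.2 hc
  obtain ⟨k, z, hz, hzT⟩ := key n hn
  exact ⟨k, z, hz, hgen z hzT⟩

/-- With a simple reduction, a power of `t` kills the module unless `t` is regular. -/
theorem exists_pow_mem_annihilator (ht : t ∈ IsLocalRing.maximalIdeal R)
    (hs : IsSimpleModule R (L ⧸ (Ideal.span {t} • ⊤ : Submodule R L))) {x : L} (hx : x ≠ 0) (h0 : t • x = 0) :
    ∃ n : ℕ, t ^ n ∈ Module.annihilator R L := by
  obtain ⟨n, z, rfl, hz⟩ := exists_pow_smul_generator ht hs hx
  refine ⟨n + 1, Module.mem_annihilator.2 fun w => ?_⟩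
  obtain ⟨c, rfl⟩ := Submodule.mem_span_singleton.1 (show w ∈ Submodule.span R {z} from hz ▸ Submodule.mem_top)
  rw [smul_comm, pow_succ', mul_smul, h0, smul_zero]

end Local

section Global

variable {A : Type u} [CommRing A] [IsNoetherianRing A] {M : Type u} [AddCommGroup M] [Module A M]

theorem localized_span_singleton_smul (p : Ideal A) [p.IsPrime] (t : A) :
    (Ideal.span {t} • (⊤ : Submodule A M)).localized p.primeCompl =
      Ideal.span {algebraMap A (Localization.AtPrime p) t} • (⊤ : Submodule _ (LocalizedModule p.primeCompl M)) := by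
  ext x
  rw [Submodule.ideal_span_singleton_smul, Submodule.ideal_span_singleton_smul]
  constructor
  · rintro ⟨m, ⟨y, -, rfl⟩, s, rfl⟩
    refine ⟨IsLocalizedModule.mk' (LocalizedModule.mkLinearMap p.primeCompl M) y s, trivial, ?_⟩
    show algebraMap A (Localization.AtPrime p) t • IsLocalizedModule.mk' (LocalizedModule.mkLinearMap p.primeCompl M) y s =
      IsLocalizedModule.mk' (LocalizedModule.mkLinearMap p.primeCompl M) (t • y) s
    rw [algebraMap_smul, ← IsLocalizedModule.mk'_smul]
  · rintro ⟨z, -, rfl⟩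
    obtain ⟨⟨y, s⟩, rfl⟩ := IsLocalizedModule.mk'_surjective p.primeCompl (LocalizedModule.mkLinearMap p.primeCompl M) z
    refine ⟨t • y, ⟨y, trivial, rfl⟩, s, ?_⟩
    show _ = algebraMap A (Localization.AtPrime p) t • IsLocalizedModule.mk' (LocalizedModule.mkLinearMap p.primeCompl M) y s
    rw [algebraMap_smul, ← IsLocalizedModule.mk'_smul]

/-- A localised reduction of length one is a simple module. -/
theorem isSimpleModule_reduction (p : Ideal A) [p.IsPrime] (t : A)
    (h : Module.length (Localization.AtPrime p)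
      (LocalizedModule p.primeCompl (M ⧸ (Ideal.span {t} • (⊤ : Submodule A M)))) = 1) :
    IsSimpleModule (Localization.AtPrime p) (LocalizedModule p.primeCompl M ⧸
      (Ideal.span {algebraMap A (Localization.AtPrime p) t} • ⊤ : Submodule (Localization.AtPrime p) (LocalizedModule p.primeCompl M))) := by
  rw [← localized_span_singleton_smul, ← Module.length_eq_one_iff, LinearEquiv.length_eq
    (localizedQuotientEquiv p.primeCompl (Ideal.span {t} • (⊤ : Submodule A M)))]
  exact h

/-- At a prime where the reduction has length one, `t` is regular unless it lies in a minimal prime. -/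
theorem regular_localized [Module.Finite A M] (p : Ideal A) [p.IsPrime] {t : A} (htp : t ∈ p)
    (ht : ∀ q ∈ (Module.annihilator A M).minimalPrimes, q ≤ p → t ∉ q)
    (h : Module.length (Localization.AtPrime p)
      (LocalizedModule p.primeCompl (M ⧸ (Ideal.span {t} • (⊤ : Submodule A M)))) = 1)
    {x : LocalizedModule p.primeCompl M} (hx : t • x = 0) : x = 0 := by
  by_contra hne
  obtain ⟨n, hn⟩ := exists_pow_mem_annihilator (t := algebraMap A (Localization.AtPrime p) t)
    ((IsLocalization.AtPrime.to_map_mem_maximal_iff _ p t).2 htp) (isSimpleModule_reduction p t h) hne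
    (by rw [algebraMap_smul]; exact hx)
  obtain ⟨T, hT⟩ := (inferInstance : Module.Finite A M).fg_top
  have hk : ∀ m : M, ∃ s : p.primeCompl, (s : A) • (t ^ n • m) = 0 := fun m => by
    have h1 := Module.mem_annihilator.1 hn (LocalizedModule.mkLinearMap p.primeCompl M m)
    rw [← map_pow, algebraMap_smul, ← map_smul] at h1
    exact (IsLocalizedModule.eq_zero_iff p.primeCompl (LocalizedModule.mkLinearMap p.primeCompl M)).1 h1
  choose s hs using hk
  let σ : p.primeCompl := ∏ m ∈ T, s m
  have hann : (σ : A) * t ^ n ∈ Module.annihilator A M := Module.mem_annihilator.2 fun w => by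
    have hw : w ∈ Submodule.span A (T : Set M) := hT ▸ Submodule.mem_top
    induction hw using Submodule.span_induction with
    | mem m hm =>
      obtain ⟨c, hc⟩ := Finset.dvd_prod_of_mem s hm
      rw [mul_smul, show σ = s m * c from hc, Submonoid.coe_mul, mul_comm, mul_smul, hs, smul_zero]
    | zero => exact smul_zero _
    | add a b _ _ ha hb => rw [smul_add, ha, hb, add_zero]
    | smul a m _ hm => rw [smul_comm, hm, smul_zero]
  have hle : Module.annihilator A M ≤ p := fun a ha => by
    by_contra hap
    refine hne ?_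
    obtain ⟨⟨y, u⟩, rfl⟩ := IsLocalizedModule.mk'_surjective p.primeCompl (LocalizedModule.mkLinearMap p.primeCompl M) x
    exact (IsLocalizedModule.mk'_eq_zero' (LocalizedModule.mkLinearMap p.primeCompl M) u).2 ⟨⟨a, hap⟩, Module.mem_annihilator.1 ha y⟩
  obtain ⟨q, hq, hqp⟩ := Ideal.exists_minimalPrimes_le hle
  exact ht q hq hqp (hq.1.1.mem_of_pow_mem n ((hq.1.1.mem_or_mem (hq.1.2 hann)).resolve_left fun hσ => σ.2 (hqp hσ)))

end Global

end Groth.Agent.AssPts11
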